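import Mathlib
import Cfsg.Agent.Lib.Coxeter.Finite
import Cfsg.Agent.Lib.WeylGen.Data
/-!
Generation by the Coxeter element and few reflections, and centres, through a faithful reflection
representation.
-/
set_option autoImplicit false

namespace CfsgLib.WeylGen

open CfsgLib.CoxeterFinite

variable {n : ℕ}

/-- Expand a word in `c, t₁, t₂` to a word in simple reflections. -/
def expand (n : ℕ) (ts : List ℕ) (w : List ℕ) : List ℕ :=
  w.flatMap fun l => if l = 0 then List.range n else [ts.getD (l - 1) 0]

/-- Equality of two words on the standard basis. -/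
def sameAction (n : ℕ) (C : List (List ℤ)) (w w' : List ℕ) : Bool :=
  (List.range n).all fun k => lword n C w (basisList n k) == lword n C w' (basisList n k)

/-- The generation certificate. -/
def checkGen (n : ℕ) (C : List (List ℤ)) (ts : List ℕ) (ws : List (List ℕ)) : Bool :=
  (ts.all fun t => decide (t < n)) && decide (ts ≠ []) &&
  ((List.range n).all fun i => sameAction n C (expand n ts (ws.getD i [])) [i] &&
    (ws.getD i []).all fun l => decide (l ≤ ts.length)) &&
  ((List.range ts.length).all fun i => (List.range ts.length).all fun j =>
    i == j || !(sameAction n C [ts.getD i 0] [ts.getD j 0]))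

variable (M : CoxeterMatrix (Fin n)) (C : List (List ℤ))

theorem reflRep_word (hrel : checkRel n (mfun M) C = true) (w : List ℕ) (hw : ∀ a ∈ w, a < n) :
    reflRep M C hrel (w.map (gen M)).prod = (w.map (refl C)).prod := by
  rw [map_list_prod, List.map_map]
  congr 1
  exact List.map_congr_left fun a ha => reflRep_gen M C hrel a (hw a ha)

theorem refl_prod_eq_iff (w w' : List ℕ) :
    (w.map (refl (n := n) C)).prod = (w'.map (refl (n := n) C)).prod ↔ sameAction n C w w' = true := by
  simp only [sameAction, List.all_eq_true, List.mem_range, beq_iff_eq]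
  constructor
  · intro h k hk
    have := ofFn_prod C w (Pi.single ⟨k, hk⟩ (1 : ℤ))
    rw [h, ofFn_prod, ofFn_single] at this
    exact this.symm
  · intro h
    refine LinearMap.pi_ext' fun k => LinearMap.ext_ring ?_
    apply List.ofFn_injective
    show List.ofFn ((w.map (refl C)).prod (Pi.single k 1)) = List.ofFn ((w'.map (refl C)).prod (Pi.single k (1 : ℤ)))
    rw [ofFn_prod, ofFn_prod, ofFn_single]
    exact h k k.2

theorem word_eq_iff (hrel : checkRel n (mfun M) C = true) (hinj : Function.Injective (reflRep M C hrel))
    (w w' : List ℕ) (hw : ∀ a ∈ w, a < n) (hw' : ∀ a ∈ w', a < n) :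
    (w.map (gen M)).prod = (w'.map (gen M)).prod ↔ sameAction n C w w' = true := by
  rw [← hinj.eq_iff, reflRep_word M C hrel w hw, reflRep_word M C hrel w' hw', refl_prod_eq_iff]

theorem coxeter_eq_word : ((List.finRange n).map M.simple).prod = ((List.range n).map (gen M)).prod := by
  rw [← List.map_coe_finRange_eq_range, List.map_map]
  congr 1
  exact List.map_congr_left fun i _ => by simp [gen]

/-- The generation statement. -/
theorem generated (hrel : checkRel n (mfun M) C = true) (hinj : Function.Injective (reflRep M C hrel))
    {ts : List ℕ} {ws : List (List ℕ)} (h : checkGen n C ts ws = true) :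
    ∃ T : Finset M.Group, T.card = ts.length ∧
      (∀ t ∈ T, ∃ (g : M.Group) (i : Fin n), t = g * M.simple i * g⁻¹) ∧
      Subgroup.closure (({((List.finRange n).map M.simple).prod} : Set M.Group) ∪ ↑T) = ⊤ := by
  classical
  simp only [checkGen, Bool.and_eq_true, List.all_eq_true, List.mem_range, decide_eq_true_eq,
    Bool.or_eq_true, beq_iff_eq, Bool.not_eq_true'] at h
  obtain ⟨⟨⟨hts, hne⟩, hws⟩, hdist⟩ := h
  have hget : ∀ i < ts.length, ts.getD i 0 < n := fun i hi => by
    rw [List.getD_eq_getElem _ _ hi]; exact hts _ (List.getElem_mem _)
  refine ⟨(Finset.range ts.length).image fun i => gen M (ts.getD i 0), ?_, ?_, ?_⟩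
  · rw [Finset.card_image_of_injOn, Finset.card_range]
    intro i hi j hj hij
    simp only [Finset.coe_range, Set.mem_Iio] at hi hj
    rcases hdist i hi j hj with h | h
    · exact h
    · exfalso
      have := (word_eq_iff M C hrel hinj [ts.getD i 0] [ts.getD j 0] (by simpa using hget i hi)
        (by simpa using hget j hj)).1 (by simpa using hij)
      exact Bool.false_ne_true (h.symm.trans (by simpa using this))
  · intro t ht
    simp only [Finset.mem_image, Finset.mem_range] at ht
    obtain ⟨i, hi, rfl⟩ := ht
    exact ⟨1, ⟨_, hget i hi⟩, by rw [gen, dif_pos (hget i hi)]; simp⟩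
  · set S : Subgroup M.Group := Subgroup.closure (({((List.finRange n).map M.simple).prod} : Set M.Group) ∪
      ↑((Finset.range ts.length).image fun i => gen M (ts.getD i 0)))
    rw [eq_top_iff, ← M.toCoxeterSystem.subgroup_closure_range_simple, Subgroup.closure_le]
    rintro _ ⟨i, rfl⟩
    obtain ⟨hact, hlen⟩ := hws i i.2
    have hlt : ∀ a ∈ expand n ts (ws.getD i []), a < n := by
      intro a ha
      simp only [expand, List.mem_flatMap] at ha
      obtain ⟨l, hl, ha⟩ := ha
      split at ha
      · exact List.mem_range.1 ha
      · simp only [List.mem_singleton] at ha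
        subst ha
        exact hget _ (by have := hlen l hl; omega)
    have heq := (word_eq_iff M C hrel hinj _ [i.val] hlt (by simp)).2 hact
    have hmem : ∀ w : List ℕ, (∀ l ∈ w, l ≤ ts.length) → ((expand n ts w).map (gen M)).prod ∈ S := by
      intro w
      induction w with
      | nil => intro _; simp [expand, S.one_mem]
      | cons l w ih =>
        intro hl
        simp only [expand, List.flatMap_cons, List.map_append, List.prod_append]
        refine S.mul_mem ?_ (ih fun a ha => hl a (List.mem_cons_of_mem _ ha))
        split
        · rw [← coxeter_eq_word]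
          exact Subgroup.subset_closure (Or.inl rfl)
        · have := hl l (by simp)
          simp only [List.map_cons, List.map_nil, List.prod_cons, List.prod_nil, mul_one]
          exact Subgroup.subset_closure (Or.inr (Finset.mem_coe.2 (Finset.mem_image.2
            ⟨l - 1, Finset.mem_range.2 (by omega), rfl⟩)))
    have h1 : M.simple i ∈ S := by
      have h2 := hmem _ hlen
      rw [heq] at h2
      simpa [gen] using h2
    exact h1

section Centre

/-- The nodes reached from node `0` in `k` steps. -/
def reach (n : ℕ) (C : List (List ℤ)) : ℕ → List ℕ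
  | 0 => [0]
  | k + 1 =>
    let r := reach n C k
    r ++ (List.range n).filter fun b => r.any fun a => decide (ent C a b ≠ 0)

/-- The Cartan matrix has diagonal `2` and a connected diagram. -/
def checkConn (n : ℕ) (C : List (List ℤ)) : Bool :=
  ((List.range n).all fun a => decide (ent C a a = 2)) &&
  ((List.range n).all fun b => (reach n C n).contains b)

theorem refl_apply (a : Fin n) (v : Fin n → ℤ) (j : Fin n) :
    refl C a v j = v j - v a * ent C a j := by
  show v j - (if h : a.val < n then v ⟨a, h⟩ else 0) * ent C a j = _
  simp

/-- Endomorphisms commuting with all reflections are scalars. -/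
theorem scalar_of_commute (hC : checkConn n C = true) (hn : 0 < n) (A : Module.End ℤ (Fin n → ℤ))
    (hA : ∀ a : Fin n, A * refl C a = refl C a * A) : ∃ z : ℤ, ∀ v, A v = z • v := by
  simp only [checkConn, Bool.and_eq_true, List.all_eq_true, List.mem_range, decide_eq_true_eq,
    List.contains_iff_mem] at hC
  obtain ⟨hdiag, hconn⟩ := hC
  let al : Fin n → Fin n → ℤ := fun a j => ent C a j
  let lam : Fin n → ℤ := fun a => A (Pi.single a 1) a
  have hrefl : ∀ (a : Fin n) v, refl C a v = v - v a • al a := fun a v => by
    funext j; simp [refl_apply, al]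
  have key : ∀ (a : Fin n) v, v a • A (al a) = A v a • al a := by
    intro a v
    have := congrArg (fun f : Module.End ℤ (Fin n → ℤ) => f v) (hA a)
    simp only [Module.End.mul_apply, hrefl, map_sub, map_smul] at this
    exact sub_right_injective this
  have hAl : ∀ a, A (al a) = lam a • al a := fun a => by simpa [lam] using key a (Pi.single a 1)
  have happ : ∀ v a, A v a = lam a * v a := by
    intro v a
    have h2 := congrFun (key a v) a
    rw [hAl] at h2
    simp only [Pi.smul_apply, smul_eq_mul, al, hdiag a a.2] at h2
    linarith
  have hreach : ∀ k, ∀ b ∈ reach n C k, ∀ hb : b < n, lam ⟨b, hb⟩ = lam ⟨0, hn⟩ := by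
    intro k
    induction k with
    | zero =>
      intro b hmem hb
      simp only [reach, List.mem_singleton] at hmem
      subst hmem
      rfl
    | succ k ih =>
      intro b hmem hb
      simp only [reach, List.mem_append, List.mem_filter, List.mem_range, List.any_eq_true, decide_eq_true_eq] at hmem
      rcases hmem with h | ⟨-, a, ha, hab⟩
      · exact ih b h hb
      · have han : a < n := by
          by_contra hcon
          apply hab
          have hlt : ∀ j x, x ∈ reach n C j → x < n := by
            intro j
            induction j with
            | zero => intro x hx; simp only [reach, List.mem_singleton] at hx; omega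
            | succ j ihj =>
              intro x hx
              simp only [reach, List.mem_append, List.mem_filter, List.mem_range] at hx
              rcases hx with hx | hx
              · exact ihj x hx
              · exact hx.1
          exact absurd (hlt k a ha) hcon
        have e := congrFun (hAl ⟨a, han⟩) ⟨b, hb⟩
        rw [happ] at e
        simp only [Pi.smul_apply, smul_eq_mul, al] at e
        have e2 : lam ⟨b, hb⟩ = lam ⟨a, han⟩ := mul_right_cancel₀ hab e
        exact e2.trans (ih a ha han)
  have hz : ∀ b : Fin n, lam b = lam ⟨0, hn⟩ := fun b => hreach n b (hconn b b.2) b.2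
  exact ⟨lam ⟨0, hn⟩, fun v => funext fun b => by rw [happ, hz b]; simp⟩

/-- Central elements act as `1` or `-1`. -/
theorem center_cases (hrel : checkRel n (mfun M) C = true) (hinj : Function.Injective (reflRep M C hrel))
    (hC : checkConn n C = true) (hn : 0 < n) {g : M.Group} (hg : g ∈ Subgroup.center M.Group) :
    g = 1 ∨ reflRep M C hrel g = -1 := by
  have hcomm : ∀ a : Fin n, reflRep M C hrel g * refl C a = refl C a * reflRep M C hrel g := by
    intro a
    rw [← reflRep_gen M C hrel a a.2, ← map_mul, ← map_mul, Subgroup.mem_center_iff.1 hg (gen M a)]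
  obtain ⟨z, hz⟩ := scalar_of_commute C hC hn _ hcomm
  have hunit : z * z = 1 := by
    have h1 : reflRep M C hrel g⁻¹ * reflRep M C hrel g = 1 := by rw [← map_mul, inv_mul_cancel, map_one]
    have h2 := congrFun (congrArg (fun f : Module.End ℤ (Fin n → ℤ) => f (Pi.single ⟨0, hn⟩ 1)) h1) ⟨0, hn⟩
    rw [Module.End.mul_apply, hz, map_smul] at h2
    simp only [Pi.smul_apply, smul_eq_mul, Module.End.one_apply, Pi.single_eq_same] at h2
    have hu : IsUnit z := IsUnit.of_mul_eq_one _ h2
    exact Int.isUnit_mul_self hu
  rcases mul_self_eq_one_iff.1 hunit with rfl | rfl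
  · refine Or.inl (hinj ?_)
    rw [map_one]
    exact LinearMap.ext fun v => by rw [hz]; simp
  · exact Or.inr (LinearMap.ext fun v => by rw [hz]; simp)

/-- The Coxeter element power is `-1`. -/
def checkNeg (n : ℕ) (C : List (List ℤ)) (e : ℕ) : Bool :=
  (List.range n).all fun k => lword n C (coxWord n e) (basisList n k) == (basisList n k).map Neg.neg

theorem center_order_two (hrel : checkRel n (mfun M) C = true) (hinj : Function.Injective (reflRep M C hrel))
    (hC : checkConn n C = true) (hn : 0 < n) {e : ℕ} (he : checkNeg n C e = true) :
    Nat.card (Subgroup.center M.Group) = 2 ∧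
      Subgroup.center M.Group ≤ Subgroup.zpowers ((List.finRange n).map M.simple).prod := by
  set c := ((List.finRange n).map M.simple).prod with hc
  simp only [checkNeg, List.all_eq_true, List.mem_range, beq_iff_eq] at he
  have hce : reflRep M C hrel (c ^ e) = -1 := by
    rw [hc, coxeter_eq_word, ← map_replicate_flatten_prod,
      reflRep_word M C hrel _ (fun a ha => by
        simp only [List.mem_flatten, List.mem_replicate] at ha
        obtain ⟨l, ⟨-, rfl⟩, hl⟩ := ha
        exact List.mem_range.1 hl)]
    refine LinearMap.pi_ext' fun k => LinearMap.ext_ring ?_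
    apply List.ofFn_injective
    show List.ofFn (((coxWord n e).map (refl C)).prod (Pi.single k 1)) = List.ofFn ((-1 : Module.End ℤ (Fin n → ℤ)) (Pi.single k (1 : ℤ)))
    rw [ofFn_prod, ofFn_single, he k k.2, ← ofFn_single, List.map_ofFn]
    simp only [Function.comp_def]
    rfl
  have hne : c ^ e ≠ 1 := by
    intro h
    rw [h, map_one] at hce
    have := congrFun (congrArg (fun f : Module.End ℤ (Fin n → ℤ) => f (Pi.single ⟨0, hn⟩ 1)) hce) ⟨0, hn⟩
    simp at this
  have hcc : c ^ e ∈ Subgroup.center M.Group := by
    rw [Subgroup.mem_center_iff]
    intro x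
    refine hinj ?_
    rw [map_mul, map_mul, hce]
    simp
  have hset : (Subgroup.center M.Group : Set M.Group) = {1, c ^ e} := by
    ext g
    constructor
    · intro hg
      rcases center_cases M C hrel hinj hC hn hg with h | h
      · exact Or.inl h
      · exact Or.inr (hinj (h.trans hce.symm))
    · rintro (rfl | rfl)
      · exact one_mem _
      · exact hcc
  refine ⟨?_, fun g hg => ?_⟩
  · rw [← SetLike.coe_sort_coe, hset, Nat.card_coe_set_eq, Set.ncard_pair hne.symm]
  · rcases (Set.ext_iff.1 hset g).1 hg with rfl | rfl
    · exact one_mem _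
    · exact Subgroup.npow_mem_zpowers c e

/-- The orbit certificate: closed under the generators, containing `l` but not `-l`. -/
def checkOrbit (n : ℕ) (C : List (List ℤ)) (l : List ℤ) (o : List (List ℤ)) : Bool :=
  decide (l.length = n) && o.contains l && !(o.contains (l.map Neg.neg)) &&
  (o.all fun v => (List.range n).all fun a => o.contains (lrefl n C a v))

theorem center_trivial (hrel : checkRel n (mfun M) C = true) (hinj : Function.Injective (reflRep M C hrel))
    (hC : checkConn n C = true) (hn : 0 < n) {l : List ℤ} {o : List (List ℤ)}
    (ho : checkOrbit n C l o = true) :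
    Nat.card (Subgroup.center M.Group) = 1 ∧
      Subgroup.center M.Group ≤ Subgroup.zpowers ((List.finRange n).map M.simple).prod := by
  simp only [checkOrbit, Bool.and_eq_true, List.all_eq_true, List.mem_range, decide_eq_true_eq,
    List.contains_iff_mem, Bool.not_eq_true'] at ho
  obtain ⟨⟨⟨hlen, hl⟩, hneg⟩, hclosed⟩ := ho
  have hinv : ∀ g : M.Group, List.ofFn (reflRep M C hrel g (vec l)) ∈ o := by
    intro g
    have hg : g ∈ Subgroup.closure (Set.range M.simple) := by
      rw [show Subgroup.closure (Set.range M.simple) = ⊤ from M.toCoxeterSystem.subgroup_closure_range_simple]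
      trivial
    induction hg using Subgroup.closure_induction_left with
    | one => rw [map_one, Module.End.one_apply, ofFn_vec hlen]; exact hl
    | mul_left x hx y _ ih =>
      obtain ⟨a, rfl⟩ := hx
      rw [show M.simple a = gen M a by simp [gen], map_mul, Module.End.mul_apply,
        reflRep_gen M C hrel a a.2, ofFn_refl]
      exact hclosed _ ih a a.2
    | inv_mul_cancel x hx y _ ih =>
      obtain ⟨a, rfl⟩ := hx
      rw [show M.simple a = gen M a by simp [gen], inv_eq_of_mul_eq_one_left (gen_mul_self M a),
        map_mul, Module.End.mul_apply, reflRep_gen M C hrel a a.2, ofFn_refl]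
      exact hclosed _ ih a a.2
  have hbot : Subgroup.center M.Group = ⊥ := by
    refine eq_bot_iff.2 fun g hg => ?_
    rcases center_cases M C hrel hinj hC hn hg with h | h
    · exact h
    · exfalso
      have := hinv g
      rw [h, LinearMap.neg_apply, Module.End.one_apply] at this
      have e : List.ofFn (-(vec (n := n) l)) = l.map Neg.neg := by
        conv_rhs => rw [← ofFn_vec (n := n) hlen]
        rw [List.map_ofFn]
        rfl
      rw [e] at this
      simp [this] at hneg
  rw [hbot]
  exact ⟨Subgroup.card_bot, bot_le⟩

end Centre

end CfsgLib.WeylGen
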